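import Groth.Agent.FibreFlat.PointCrit
import Groth.Agent.InfLift.SchemeSmallExt
import Groth.Agent.FormalStalk.Completion
import Groth.Agent.SmDesc.Scheme
/-!
Flatness and smoothness of a proper morphism over the completion along the special fibre of a
discrete valuation ring.
-/
set_option autoImplicit false
set_option backward.isDefEq.respectTransparency false
set_option linter.style.haveILetI false
set_option maxHeartbeats 1000000
universe u
open AlgebraicGeometry CategoryTheory CategoryTheory.Limits IsLocalRing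

namespace Groth.Agent.FlatDVRCpl

theorem eq_toSpecΓ {Y : Scheme.{u}} {R : CommRingCat.{u}} (m : Y ⟶ Spec R) :
    Y.toSpecΓ ≫ Spec.map ((Scheme.ΓSpecIso R).inv ≫ m.appTop) = m := by
  apply ext_of_isAffine
  simp

variable {V A : Type u} [CommRing V] [IsLocalRing V] [CommRing A] [Algebra V A]

/-- The ideal of the special fibre. -/
noncomputable abbrev spI (V A : Type u) [CommRing V] [IsLocalRing V] [CommRing A] [Algebra V A] : Ideal A :=
  (maximalIdeal V).map (algebraMap V A)

/-- The inclusion of the special fibre. -/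
noncomputable abbrev spq (V A : Type u) [CommRing V] [IsLocalRing V] [CommRing A] [Algebra V A] :
    Spec (.of (A ⧸ spI V A)) ⟶ Spec (.of A) :=
  Spec.map (CommRingCat.ofHom (Ideal.Quotient.mk (spI V A)))

/-- The completion morphism. -/
noncomputable abbrev spc (V A : Type u) [CommRing V] [IsLocalRing V] [CommRing A] [Algebra V A] :
    Spec (.of (AdicCompletion (spI V A) A)) ⟶ Spec (.of A) :=
  Spec.map (CommRingCat.ofHom (algebraMap A (AdicCompletion (spI V A) A)))

/-- The structure map. -/
noncomputable abbrev spa (V A : Type u) [CommRing V] [CommRing A] [Algebra V A] :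
    Spec (.of A) ⟶ Spec (.of V) :=
  Spec.map (CommRingCat.ofHom (algebraMap V A))

/-- A morphism lying over a field-valued point at the closed point factors through the special fibre. -/
theorem exists_lift {Y : Scheme.{u}} {K : CommRingCat.{u}} (hK : IsField K)
    (u : Y ⟶ Spec (.of A)) (w : Y ⟶ Spec K) (b : Spec K ⟶ Spec (.of V))
    (hb : ∀ p, b p = closedPoint V) (h : u ≫ spa V A = w ≫ b) :
    ∃ t : Y ⟶ Spec (.of (A ⧸ spI V A)), t ≫ spq V A = u := by
  let ψ : (CommRingCat.of A : CommRingCat.{u}) ⟶ Γ(Y, ⊤) := (Scheme.ΓSpecIso _).inv ≫ u.appTop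
  obtain ⟨φ, rfl⟩ := Spec.map_surjective b
  have hker : spI V A ≤ RingHom.ker ψ.hom := by
    rw [Ideal.map_le_iff_le_comap]
    intro π hπ
    letI := hK.toField
    have h0 : φ.hom π = 0 := by
      have h1 := congrArg PrimeSpectrum.asIdeal (hb ⟨⊥, Ideal.isPrime_bot⟩)
      change Ideal.comap φ.hom ⊥ = maximalIdeal V at h1
      rw [← h1] at hπ
      exact hπ
    have h2 : CommRingCat.ofHom (algebraMap V A) ≫ ψ = φ ≫ (Scheme.ΓSpecIso _).inv ≫ w.appTop := by
      have := congrArg (fun m : Y ⟶ Spec (.of V) => (Scheme.ΓSpecIso _).inv ≫ m.appTop) h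
      simp only [Scheme.Hom.comp_appTop] at this
      rw [← Category.assoc, ← Scheme.ΓSpecIso_inv_naturality,
        ← Category.assoc (Scheme.ΓSpecIso (CommRingCat.of V)).inv, ← Scheme.ΓSpecIso_inv_naturality] at this
      simpa [ψ] using this
    have h3 := congrArg (fun m : (CommRingCat.of V : CommRingCat.{u}) ⟶ Γ(Y, ⊤) => m.hom π) h2
    simp only [CommRingCat.hom_comp, RingHom.comp_apply, CommRingCat.hom_ofHom, h0, map_zero] at h3
    exact h3
  refine ⟨Y.toSpecΓ ≫ Spec.map (CommRingCat.ofHom (Ideal.Quotient.lift (spI V A) ψ.hom hker)), ?_⟩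
  rw [Category.assoc, ← Spec.map_comp]
  exact eq_toSpecΓ u

theorem prop_of_isPullback (P : MorphismProperty Scheme.{u}) [P.IsStableUnderBaseChange]
    {X W T Y : Scheme.{u}} {h : X ⟶ W} {q : T ⟶ W} (hP : P (pullback.snd h q))
    (t : Y ⟶ T) {Z : Scheme.{u}} {a : Z ⟶ X} {b : Z ⟶ Y} (sq : IsPullback a b h (t ≫ q)) : P b := by
  have h1 : P (pullback.snd (pullback.snd h q) t) := MorphismProperty.pullback_snd _ _ hP
  rw [← pullbackLeftPullbackSndIso_hom_snd h q t, P.cancel_left_of_respectsIso] at h1
  rw [← sq.isoPullback_hom_snd, P.cancel_left_of_respectsIso]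
  exact h1

/-- The closed point of the completion. -/
noncomputable def spj (V A : Type u) [CommRing V] [IsLocalRing V] [CommRing A] [Algebra V A] :
    Spec (.of (A ⧸ spI V A)) ⟶ Spec (.of (AdicCompletion (spI V A) A)) :=
  Spec.map (CommRingCat.ofHom ((Ideal.quotEquivOfEq (pow_one (spI V A))).toRingHom.comp
    (AdicCompletion.evalₐ (spI V A) 1).toRingHom))

theorem spj_spc : spj V A ≫ spc V A = spq V A := by
  rw [spj, spc, ← Spec.map_comp]
  congr 1

theorem prop_reduction (P : MorphismProperty Scheme.{u}) [P.IsStableUnderBaseChange] {X : Scheme.{u}}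
    (h : X ⟶ Spec (.of A)) (hf : P (pullback.snd h (spc V A))) : P (pullback.snd h (spq V A)) := by
  refine prop_of_isPullback P hf (spj V A) (a := pullback.fst h (spq V A)) ?_
  rw [spj_spc]
  exact IsPullback.of_hasPullback _ _

variable [IsNoetherianRing A]

theorem flat_spc : Flat (spc V A) :=
  Flat.SpecMap_iff.2 (RingHom.flat_algebraMap_iff.2 (AdicCompletion.flat_of_isNoetherian _))

/-- An open of the total space containing the special fibre is everything. -/
theorem eq_top_of_special {G : Scheme.{u}} (f : G ⟶ Spec (.of (AdicCompletion (spI V A) A)))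
    [UniversallyClosed f] (W : G.Opens) (hW : ∀ y, (spc V A ≫ spa V A) (f y) = closedPoint V → y ∈ W) :
    W = ⊤ := by
  ext y
  simp only [TopologicalSpace.Opens.coe_top, Set.mem_univ, iff_true]
  by_contra hy
  have hcl : IsClosed (f '' (W : Set G)ᶜ) := f.isClosedMap _ W.isOpen.isClosed_compl
  obtain ⟨m, hm, hle⟩ := Ideal.exists_le_maximal (f y).asIdeal (f y).isPrime.ne_top
  let η : ↥(Spec (.of (AdicCompletion (spI V A) A))) :=
    (⟨m, hm.isPrime⟩ : PrimeSpectrum (AdicCompletion (spI V A) A))
  have hη : η ∈ f '' (W : Set G)ᶜ :=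
    ((PrimeSpectrum.le_iff_specializes _ η).1 hle).mem_closed hcl ⟨y, hy, rfl⟩
  obtain ⟨y', hy', he⟩ := hη
  refine hy' (hW y' ?_)
  rw [he]
  apply PrimeSpectrum.ext
  change (m.comap (algebraMap A (AdicCompletion (spI V A) A))).comap (algebraMap V A) = maximalIdeal V
  refine ((maximalIdeal.isMaximal V).eq_of_le (Ideal.IsPrime.comap _).ne_top fun π hπ => ?_).symm
  have hj := FormalStalk.map_le_jacobson (spI V A) (IsNoetherian.noetherian _)
    (Ideal.mem_map_of_mem _ (Ideal.mem_map_of_mem (algebraMap V A) hπ))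
  rw [Ideal.jacobson] at hj
  exact (Submodule.mem_sInf.1 hj) m ⟨bot_le, hm⟩

variable [IsDomain V] [IsDiscreteValuationRing V] [Module.Flat V A] [Algebra.FinitePresentation V A]
  {X : Scheme.{u}} (h : X ⟶ Spec (.of A)) [IsProper h]

theorem flatAt_of_generic {Z : Scheme.{u}} (g : Z ⟶ Spec (.of V)) (x : Z) (hx : (g x).asIdeal = ⊥) :
    FibreFlat.FlatAt g x := by
  letI := (StructureSheaf.stalkAlgebra V (g x))
  haveI hloc : IsLocalization.AtPrime ((Spec.structureSheaf V).presheaf.stalk (g x)) (g x).asIdeal :=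
    StructureSheaf.IsLocalization.to_stalk V (g x)
  have hpc : (g x).asIdeal.primeCompl = nonZeroDivisors V := by
    ext v
    rw [Ideal.mem_primeCompl_iff, hx, mem_nonZeroDivisors_iff_ne_zero, Ideal.mem_bot]
  haveI : IsFractionRing V ((Spec.structureSheaf V).presheaf.stalk (g x)) :=
    (show IsLocalization (nonZeroDivisors V) _ by rw [← hpc]; exact hloc)
  exact RingHom.Flat.of_isField (IsFractionRing.toField V (K := ((Spec.structureSheaf V).presheaf.stalk (g x)))).toIsField _

theorem flatAt_special (hg : Flat (h ≫ spa V A)) (h₀ : Flat (pullback.snd h (spq V A))) (x : X)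
    (hx : (spa V A) (h x) = closedPoint V) : FibreFlat.FlatAt h x := by
  haveI : LocallyOfFinitePresentation h := InfLift.lfp_of_lft h
  haveI : LocallyOfFinitePresentation (spa V A) :=
    (LocallyOfFinitePresentation.SpecMap_iff _).2 (RingHom.finitePresentation_algebraMap.2 ‹_›)
  haveI := hg
  let b := (Spec (CommRingCat.of V)).fromSpecResidueField (closedPoint V)
  obtain ⟨p₀, -⟩ : ∃ p₀ : ↥(Spec ((Spec (CommRingCat.of V)).residueField (closedPoint V))), True :=
    ⟨IsLocalRing.closedPoint _, trivial⟩
  obtain ⟨p, hp, -⟩ := Scheme.Pullback.exists_preimage_pullback (f := h ≫ spa V A) (g := b) x p₀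
    (by rw [Scheme.Hom.comp_apply, hx, Scheme.fromSpecResidueField_apply])
  refine FibreFlat.flatAt_of_fibre h (spa V A) x hx p hp ?_
  obtain ⟨t, ht⟩ := exists_lift (V := V) (A := A) (Field.toIsField _) (pullback.fst (spa V A) b)
    (pullback.snd (spa V A) b) b (fun q => Scheme.fromSpecResidueField_apply _ q) pullback.condition
  haveI := prop_of_isPullback @Flat h₀ t (b := FibreFlat.fibMap h (spa V A) b)
    (by rw [ht]; exact FibreFlat.isPullback_fibMap h (spa V A) b)
  exact FibreFlat.flatAt_of_flat _ p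

theorem flat_snd (hg : Flat (h ≫ spa V A)) (h₀ : Flat (pullback.snd h (spq V A))) :
    Flat (pullback.snd h (spc V A)) := by
  haveI : LocallyOfFinitePresentation h := InfLift.lfp_of_lft h
  set f := pullback.snd h (spc V A)
  refine Flat.of_stalkMap f fun y => ?_
  suffices htop : FibreFlat.flatOpen f = ⊤ from (FibreFlat.mem_flatOpen (f := f)).1 (htop ▸ trivial)
  refine eq_top_of_special f _ fun y hy => FibreFlat.mem_flatOpen.2 ?_
  refine FibreFlat.flatAt_of_isPullback (IsPullback.of_hasPullback h (spc V A)) ?_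
  exact flatAt_special h hg h₀ _ (by
    rw [← hy]
    exact congrArg (fun m : _ ⟶ Spec (.of A) => (spa V A) (m y)) pullback.condition)

theorem smooth_snd (hg : Flat (h ≫ spa V A)) (h₀ : Smooth (pullback.snd h (spq V A))) :
    Smooth (pullback.snd h (spc V A)) := by
  haveI : LocallyOfFinitePresentation h := InfLift.lfp_of_lft h
  haveI := h₀
  haveI := flat_snd h hg inferInstance
  set f := pullback.snd h (spc V A)
  rw [← Scheme.Hom.smoothLocus_eq_top_iff]
  refine eq_top_of_special f _ fun y hy => ?_
  refine SmDesc.mem_smoothLocus_of_flat_fibre (f := f) (f.asFiber y) (f.fiberι_asFiber y) ?_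
  have : Smooth (f.fiberToSpecResidueField (f y)) := by
    obtain ⟨t, ht⟩ := exists_lift (V := V) (A := A) (Field.toIsField _)
      ((Spec _).fromSpecResidueField (f y) ≫ spc V A) (𝟙 _)
      ((Spec _).fromSpecResidueField (f y) ≫ spc V A ≫ spa V A)
      (fun p => by rw [Scheme.Hom.comp_apply, Scheme.fromSpecResidueField_apply]; exact hy)
      (by rw [Category.id_comp, Category.assoc])
    refine prop_of_isPullback @Smooth h₀ t (a := f.fiberι (f y) ≫ pullback.fst h (spc V A)) ?_
    rw [ht]
    exact (IsPullback.of_hasPullback f _).paste_horiz (IsPullback.of_hasPullback h (spc V A))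
  rw [Scheme.Hom.smoothLocus_eq_top]
  trivial

theorem flat_structure (hf : Flat (pullback.snd h (spc V A))) : Flat (h ≫ spa V A) := by
  haveI := flat_spc (V := V) (A := A)
  refine Flat.of_stalkMap _ fun x => ?_
  rcases (em (((h ≫ spa V A) x).asIdeal = ⊥)).imp_right
    (fun hne => IsLocalRing.eq_maximalIdeal (((h ≫ spa V A) x).isPrime.isMaximal hne)) with hb | hc
  · exact flatAt_of_generic _ x hb
  · obtain ⟨w, hw⟩ : h x ∈ Set.range (spq V A) := by
      have hle : spI V A ≤ (h x).asIdeal := by
        rw [Ideal.map_le_iff_le_comap]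
        exact hc.ge
      exact (range_comap_of_surjective _ (Ideal.Quotient.mk (spI V A))
        Ideal.Quotient.mk_surjective).ge (by
          rw [Ideal.mk_ker]
          exact hle)
    obtain ⟨y, hy, -⟩ := Scheme.Pullback.exists_preimage_pullback (f := h) (g := spc V A) x
      (spj V A w) (by rw [← Scheme.Hom.comp_apply, spj_spc]; exact hw.symm)
    subst hy
    refine FibreFlat.flatAt_of_comp (FibreFlat.flatAt_of_flat _ y) ?_
    haveI := hf
    haveI : Flat (spa V A) := Flat.SpecMap_iff.2 (RingHom.flat_algebraMap_iff.2 ‹_›)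
    haveI : Flat (pullback.fst h (spc V A) ≫ h ≫ spa V A) := by
      rw [pullback.condition_assoc]
      infer_instance
    exact FibreFlat.flatAt_of_flat _ y

end Groth.Agent.FlatDVRCpl
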